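import Groth.Agent.Sga7.H481.LevelTwoPts
import Groth.Agent.Sga7.H481.SHField
import Groth.Agent.Sga7.H481.Transfer
import Groth.Agent.Sga7.H274.ValExt
import Groth.Agent.SGA7.K567.Tame
import Groth.Agent.Models.K954.RingAct
import Groth.Agent.Models.K378.GeomInt
import Groth.Agent.Models.H74.CurveBC
import Groth.Agent.PicF.K247.JacProper
import Groth.Agent.S4048

/-!
# Torsion points of an abelian variety with semistable reduction over a strictly henselian trait

`R` a strictly henselian discrete valuation ring with fraction field `K`, `A` a commutative abelian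
variety over `K` with semistable reduction, `ℓ` a prime invertible in `R`, `π` a uniformizer.  Every
`σ ∈ Gal(Ω/K)` fixing an `ℓ`-th root of `π` acts trivially on the `ℓ`-torsion points `A(Ω)[ℓ]`
(`galAct_eq_of_root`).  Hence (`main`) all `ℓ`-torsion points are rational over `Frac R₁` for a finite
extension of discrete valuation rings `R ⟶ R₁` containing `w` with `w ^ ℓ = π`.
-/

set_option autoImplicit false

universe u

open CategoryTheory CategoryTheory.Limits AlgebraicGeometry
open scoped MonObj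

namespace Groth.Agent.Models.K511.InertPts

open SGA7 Groth.Agent.Sga7.H481 Groth.Agent.Sga7.H481.LevelTwoPts

section field

variable (R K Ω : Type u) [CommRing R] [IsDomain R] [IsDiscreteValuationRing R]
    [Field K] [Algebra R K] [IsFractionRing R K] [Field Ω] [Algebra K Ω] [IsSepClosure K Ω]

/-- A uniformizer has no `ℓ`-th root in `K`. -/
theorem not_root {ℓ : ℕ} (hℓ : 2 ≤ ℓ) {π : R} (hπ : Irreducible π) (z : K)
    (hz : z ^ ℓ = algebraMap R K π) : False := by
  have hint : IsIntegral R z := by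
    refine IsIntegral.of_pow (n := ℓ) (by omega) ?_
    rw [hz]
    exact isIntegral_algebraMap
  obtain ⟨r, rfl⟩ := IsIntegrallyClosed.isIntegral_iff.1 hint
  rw [← map_pow] at hz
  have h1 : r ^ ℓ = π := IsFractionRing.injective R K hz
  obtain ⟨m, rfl⟩ : ∃ m, ℓ = m + 2 := ⟨ℓ - 2, by omega⟩
  have h2 : π = r * r ^ (m + 1) := by rw [← h1]; ring
  rcases hπ.isUnit_or_isUnit h2 with h | h
  · exact hπ.not_isUnit (by rw [← h1]; exact h.pow _)
  · have h3 : IsUnit r := (isUnit_pow_iff (Nat.succ_ne_zero m)).1 h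
    exact hπ.not_isUnit (by rw [← h1]; exact h3.pow _)

omit [IsFractionRing R K] [IsSepClosure K Ω] in
/-- The valuation of an integer which is a unit of the residue field. -/
theorem val_natCast_eq_one {W : ValuationSubring Ω} (hW : SGA7.LiesOver K R W) {ℓ : ℕ}
    (hℓp : (ℓ : IsLocalRing.ResidueField R) ≠ 0) : W.valuation (ℓ : Ω) = 1 := by
  have hu := Tame.isUnit_of_residue_ne_zero hℓp
  obtain ⟨v, hv⟩ := hu
  have h0 : ∀ r : R, W.valuation (algebraMap K Ω (algebraMap R K r)) ≤ 1 := fun r =>
    (W.valuation_le_one_iff _).2 (hW.1 r)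
  have h1 := h0 (v : R)
  have h2 := h0 ((v⁻¹ : Rˣ) : R)
  have h3 : algebraMap K Ω (algebraMap R K (v : R)) * algebraMap K Ω (algebraMap R K ((v⁻¹ : Rˣ) : R)) = 1 := by
    rw [← map_mul, ← map_mul, Units.mul_inv, map_one, map_one]
  have h4 : algebraMap K Ω (algebraMap R K (v : R)) = (ℓ : Ω) := by rw [hv, map_natCast, map_natCast]
  rw [h4] at h1 h3
  refine le_antisymm h1 ?_
  calc (1 : W.ValueGroup) = W.valuation (ℓ : Ω) * W.valuation (algebraMap K Ω (algebraMap R K ((v⁻¹ : Rˣ) : R))) := by
        rw [← map_mul, h3, map_one]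
    _ ≤ W.valuation (ℓ : Ω) * 1 := by gcongr
    _ = _ := mul_one _

/-- Level two at level `ℓ`, for all of the Galois group, over a strictly henselian base: the elements
fixing an `ℓ`-th root of a uniformizer act trivially on the `ℓ`-torsion. -/
theorem galAct_eq_of_levelTwo (hR : EtCoh.IsStrictlyHenselianLocalRing R) {ℓ : ℕ} (hℓ : ℓ.Prime)
    (hℓp : (ℓ : IsLocalRing.ResidueField R) ≠ 0)
    (A : Over (Spec (CommRingCat.of K))) [GrpObj A] [IsCommMonObj A] [LocallyOfFiniteType A.hom]
    (hlev : ∀ (σ τ : Ω ≃ₐ[K] Ω), ∀ x : Pts Ω A, x ^ ℓ = 1 → dev σ (dev τ x) = 1)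
    {π : R} (hπ : Irreducible π) {z : Ω} (hz : z ^ ℓ = algebraMap K Ω (algebraMap R K π))
    (σ : Ω ≃ₐ[K] Ω) (hσ : σ z = z) (x : Pts Ω A) (hx : x ^ ℓ = 1) : galAct σ x = x := by
  have hGal : IsGalois K Ω := IsSepClosure.isGalois
  obtain ⟨W, hW⟩ := Groth.Agent.Sga7.H274.ValExt.exists_liesOver K R Ω
  let _ : Algebra R Ω := ((algebraMap K Ω).comp (algebraMap R K)).toAlgebra
  have _ : IsScalarTower R K Ω := .of_algebraMap_eq fun _ => rfl
  have hI : ∀ σ : Ω ≃ₐ[K] Ω, SGA7.IsInertia W σ := SHField.isInertia R K Ω hR hW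
  have hfixR : ∀ (g : Ω ≃ₐ[K] Ω) (r : R), g (algebraMap R Ω r) = algebraMap R Ω r := fun g r => by
    rw [IsScalarTower.algebraMap_apply R K Ω, AlgEquiv.commutes]
  have hinjR : Function.Injective (algebraMap R Ω) :=
    (algebraMap K Ω).injective.comp (IsFractionRing.injective R K)
  have hz' : z ^ ℓ = algebraMap R Ω π := hz
  have hz0 : z ≠ 0 := by
    rintro rfl
    rw [zero_pow hℓ.ne_zero, eq_comm, map_eq_zero_iff _ hinjR] at hz'
    exact hπ.ne_zero hz'
  -- `σ ↦ σ x - x` is a homomorphism
  have hmul : ∀ g s : Ω ≃ₐ[K] Ω, dev (g * s) x = dev g x * dev s x := fun g s => by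
    rw [dev_mul_left, hlev g s x hx, one_mul]
  have hone : dev (1 : Ω ≃ₐ[K] Ω) x = 1 := (dev_eq_one_iff _ _).2 (galAct_one_left x)
  let f : (Ω ≃ₐ[K] Ω) →* Pts Ω A := { toFun := fun g => dev g x, map_one' := hone, map_mul' := hmul }
  have hfℓ : ∀ g, f g ^ ℓ = 1 := fun g => by
    have h := map_pow (devHom A g) x ℓ
    rw [hx, map_one] at h
    exact h.symm
  -- the action on the root
  have hroot : ∀ g : Ω ≃ₐ[K] Ω, ∃ r : R, g z = algebraMap R Ω r * z ∧ r ^ ℓ = 1 := by
    intro g
    obtain ⟨r, hr⟩ := Tame.exists_root_act R K Ω hR ℓ (Tame.isUnit_of_residue_ne_zero hℓp) hπ.ne_zero hz' g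
    refine ⟨r, hr, ?_⟩
    have h1 : algebraMap R Ω (r ^ ℓ) * algebraMap R Ω π = algebraMap R Ω π := by
      rw [map_pow, ← hz', ← mul_pow, ← hr, ← map_pow, hz', hfixR]
    have h2 : algebraMap R Ω (r ^ ℓ * π) = algebraMap R Ω (1 * π) := by rw [map_mul, h1, one_mul]
    exact mul_right_cancel₀ hπ.ne_zero (hinjR h2)
  have hpowz : ∀ (g : Ω ≃ₐ[K] Ω) (r : R), g z = algebraMap R Ω r * z →
      ∀ n : ℕ, (g ^ n) z = algebraMap R Ω (r ^ n) * z := by
    intro g r hr n
    induction n with
    | zero => rw [pow_zero, pow_zero, AlgEquiv.one_apply, map_one, one_mul]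
    | succ n ih =>
      rw [pow_succ', AlgEquiv.mul_apply, ih, map_mul, hfixR, hr, ← mul_assoc, ← map_mul, pow_succ]
  -- the subgroup
  let H : Subgroup (Ω ≃ₐ[K] Ω) :=
    { carrier := {g | f g = 1 ∧ g z = z}
      mul_mem' := by
        rintro a b ⟨ha, ha'⟩ ⟨hb, hb'⟩
        refine ⟨by rw [map_mul, ha, hb, one_mul], ?_⟩
        rw [AlgEquiv.mul_apply, hb', ha']
      one_mem' := ⟨map_one f, rfl⟩
      inv_mem' := by
        rintro a ⟨ha, ha'⟩
        refine ⟨by rw [map_inv, ha, inv_one], ?_⟩
        conv_lhs => rw [← ha']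
        rw [← AlgEquiv.mul_apply, inv_mul_cancel, AlgEquiv.one_apply] }
  have hHmem : ∀ g : Ω ≃ₐ[K] Ω, g ∈ H ↔ f g = 1 ∧ g z = z := fun g => Iff.rfl
  obtain ⟨E₀, hE₀, hE₀fix⟩ := Groth.Agent.Sga7.H730.StabOpen.exists_finite A x
  have hzint : IsIntegral K z := Algebra.IsIntegral.isIntegral z
  have hE₁ : FiniteDimensional K (IntermediateField.adjoin K {z}) :=
    IntermediateField.adjoin.finiteDimensional hzint
  have hopen : IsOpen (H : Set (Ω ≃ₐ[K] Ω)) := by
    refine Subgroup.isOpen_mono (H₁ := (E₀ ⊔ IntermediateField.adjoin K {z}).fixingSubgroup) ?_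
      (IntermediateField.fixingSubgroup_isOpen _)
    intro g hg
    rw [IntermediateField.mem_fixingSubgroup_iff] at hg
    refine (hHmem g).2 ⟨(dev_eq_one_iff _ _).2 (hE₀fix g ?_), ?_⟩
    · rw [IntermediateField.mem_fixingSubgroup_iff]
      exact fun y hy => hg y ((le_sup_left : E₀ ≤ _) hy)
    · exact hg z ((le_sup_right : IntermediateField.adjoin K {z} ≤ E₀ ⊔ IntermediateField.adjoin K {z})
        (IntermediateField.mem_adjoin_simple_self K z))
  obtain ⟨E, hEfd, hEn, hEH⟩ := (krullTopology_mem_nhds_one_iff_of_normal K Ω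
    (H : Set (Ω ≃ₐ[K] Ω))).1 (hopen.mem_nhds H.one_mem)
  obtain ⟨τ, -, hτ⟩ := K567.Tame.exists_gen_mod (R := R) W hW E H
    (fun g _ hg => hEH (by
      change g ∈ E.fixingSubgroup
      rw [IntermediateField.mem_fixingSubgroup_iff]
      exact hg)) (M := ℓ) (val_natCast_eq_one R K Ω hW hℓp)
    (fun g _ => by
      obtain ⟨r, hr, hr1⟩ := hroot g
      exact (hHmem _).2 ⟨by rw [map_pow, hfℓ], by rw [hpowz g r hr, hr1, map_one, one_mul]⟩)
  obtain ⟨ζ, hζ, hζℓ⟩ := hroot τ
  have hdec : ∀ g : Ω ≃ₐ[K] Ω, ∃ j : ℕ, f g = f τ ^ j ∧ g z = algebraMap R Ω (ζ ^ j) * z := by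
    intro g
    obtain ⟨j, hj⟩ := hτ g (hI g)
    obtain ⟨h1, h2⟩ := (hHmem _).1 hj
    have h3 : g = τ ^ j * ((τ ^ j)⁻¹ * g) := by group
    refine ⟨j, ?_, ?_⟩
    · rw [h3, map_mul, h1, mul_one, map_pow]
    · rw [h3, AlgEquiv.mul_apply, h2, hpowz τ ζ hζ]
  have hζ1 : ζ ≠ 1 := by
    intro h1
    have h2 : ∀ g : Ω ≃ₐ[K] Ω, g z = z := by
      intro g
      obtain ⟨j, -, hj⟩ := hdec g
      rw [hj, h1, one_pow, map_one, one_mul]
    obtain ⟨y, hy⟩ := (InfiniteGalois.mem_bot_iff_fixed z).2 h2
    refine not_root R K hℓ.two_le hπ y ?_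
    apply (algebraMap K Ω).injective
    rw [map_pow]
    change (algebraMap K Ω y) ^ ℓ = _
    have hy' : algebraMap K Ω y = z := hy
    rw [hy', hz]
  obtain ⟨j, hj1, hj2⟩ := hdec σ
  have hζj : ζ ^ j = 1 := by
    apply hinjR
    rw [map_one]
    refine mul_right_cancel₀ hz0 ?_
    rw [one_mul, ← hj2, hσ]
  have hord : orderOf ζ = ℓ := by
    have := Fact.mk hℓ
    exact orderOf_eq_prime hζℓ hζ1
  obtain ⟨m, rfl⟩ : ℓ ∣ j := hord ▸ orderOf_dvd_of_pow_eq_one hζj
  have h5 : f σ = 1 := by rw [hj1, pow_mul, hfℓ, one_pow]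
  exact (dev_eq_one_iff _ _).1 h5

/-- The same for an abelian variety with semistable reduction. -/
theorem galAct_eq_of_root (hR : EtCoh.IsStrictlyHenselianLocalRing R) {ℓ : ℕ} (hℓ : ℓ.Prime)
    (hℓp : (ℓ : IsLocalRing.ResidueField R) ≠ 0)
    (A : Over (Spec (CommRingCat.of K))) [GrpObj A] [IsCommMonObj A] [IsProper A.hom]
    [GeometricallyIntegral A.hom] (hss : SGA7.HasSemistableReduction R K A)
    {π : R} (hπ : Irreducible π) {z : Ω} (hz : z ^ ℓ = algebraMap K Ω (algebraMap R K π))
    (σ : Ω ≃ₐ[K] Ω) (hσ : σ z = z) (x : Pts Ω A) (hx : x ^ ℓ = 1) : galAct σ x = x := by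
  obtain ⟨W, hW⟩ := Groth.Agent.Sga7.H274.ValExt.exists_liesOver K R Ω
  have hI : ∀ σ : Ω ≃ₐ[K] Ω, SGA7.IsInertia W σ := by
    have hGal : IsGalois K Ω := IsSepClosure.isGalois
    let _ : Algebra R Ω := ((algebraMap K Ω).comp (algebraMap R K)).toAlgebra
    have _ : IsScalarTower R K Ω := .of_algebraMap_eq fun _ => rfl
    exact SHField.isInertia R K Ω hR hW
  have h1 := (Groth.Agent.S4048.result R K Ω W hW ℓ hℓ hℓp A).1 hss
  exact galAct_eq_of_levelTwo R K Ω hR hℓ hℓp A
    (fun g s y hy => h1 1 g s (hI g) (hI s) y (by rwa [pow_one])) hπ hz σ hσ x hx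

end field

section ext

variable {R R1 : Type u} [CommRing R] [IsDomain R] [IsDiscreteValuationRing R]
  [CommRing R1] [IsDomain R1] [IsDiscreteValuationRing R1] [Algebra R R1] [Module.Finite R R1]

/-- The residue field of `R` is algebraically closed: every element of `R₁` is congruent to an element of
`R` modulo a uniformizer `w` of `R₁`. -/
theorem exists_add_mul (hk : IsAlgClosed (IsLocalRing.ResidueField R))
    (hinj : Function.Injective (algebraMap R R1)) {w : R1} (hw : Irreducible w) (s : R1) :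
    ∃ (a : R) (t : R1), s = algebraMap R R1 a + w * t := by
  have hfs : FaithfulSMul R R1 := (faithfulSMul_iff_algebraMap_injective R R1).2 hinj
  obtain ⟨y, hy⟩ := (IsAlgClosed.algebraMap_bijective_of_isIntegral (k := IsLocalRing.ResidueField R)
    (K := IsLocalRing.ResidueField R1)).2 (IsLocalRing.residue R1 s)
  obtain ⟨a, rfl⟩ := IsLocalRing.residue_surjective y
  rw [IsLocalRing.ResidueField.algebraMap_residue, eq_comm, ← sub_eq_zero, ← map_sub,
    IsLocalRing.residue_eq_zero_iff, hw.maximalIdeal_eq, Ideal.mem_span_singleton] at hy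
  obtain ⟨t, ht⟩ := hy
  exact ⟨a, t, by rw [← ht]; ring⟩

/-- `R₁ = R[w]` for a uniformizer `w` of `R₁` with `w ^ l` a uniformizer of `R`. -/
theorem adjoin_eq_top (hk : IsAlgClosed (IsLocalRing.ResidueField R))
    (hinj : Function.Injective (algebraMap R R1)) {l : ℕ} {π : R} (hπ : Irreducible π) {w : R1}
    (hw : Irreducible w) (hwπ : w ^ l = algebraMap R R1 π) : Algebra.adjoin R {w} = ⊤ := by
  have hstep : ∀ (n : ℕ) (s : R1), ∃ a ∈ Algebra.adjoin R {w}, ∃ t : R1, s = a + w ^ n * t := by
    intro n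
    induction n with
    | zero => exact fun s => ⟨0, zero_mem _, s, by rw [pow_zero, one_mul, zero_add]⟩
    | succ n ih =>
      intro s
      obtain ⟨a, ha, t, rfl⟩ := ih s
      obtain ⟨b, t', rfl⟩ := exists_add_mul hk hinj hw t
      refine ⟨a + w ^ n * algebraMap R R1 b, add_mem ha (mul_mem (pow_mem
        (Algebra.self_mem_adjoin_singleton R w) n) (Subalgebra.algebraMap_mem _ b)), t', by ring⟩
  have hle : (⊤ : Submodule R R1) ≤ Subalgebra.toSubmodule (Algebra.adjoin R {w}) := by
    refine Submodule.le_of_le_smul_of_le_jacobson_bot (I := IsLocalRing.maximalIdeal R) Module.Finite.fg_top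
      (IsLocalRing.maximalIdeal_le_jacobson _) ?_
    intro s _
    obtain ⟨a, ha, t, rfl⟩ := hstep l s
    refine Submodule.add_mem_sup ha ?_
    rw [hwπ, ← Algebra.smul_def]
    exact Submodule.smul_mem_smul (by rw [hπ.maximalIdeal_eq]; exact Ideal.mem_span_singleton_self π)
      Submodule.mem_top
  rw [eq_top_iff]
  exact fun s _ => hle (Submodule.mem_top (x := s))

/-- The extension of fraction fields is separable. -/
theorem isSeparable (hk : IsAlgClosed (IsLocalRing.ResidueField R))
    (hinj : Function.Injective (algebraMap R R1)) {l : ℕ} (hlk : (l : IsLocalRing.ResidueField R) ≠ 0)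
    {π : R} (hπ : Irreducible π) {w : R1}
    (hw : Irreducible w) (hwπ : w ^ l = algebraMap R R1 π)
    (K K1 : Type u) [Field K] [Field K1] [Algebra R K] [IsFractionRing R K] [Algebra R1 K1]
    [IsFractionRing R1 K1] [Algebra K K1] [Algebra R K1] [IsScalarTower R K K1] [IsScalarTower R R1 K1] :
    Algebra.IsSeparable K K1 := by
  have hl0 : (l : K) ≠ 0 := by
    have := (Tame.isUnit_of_residue_ne_zero hlk).map (algebraMap R K)
    rw [map_natCast] at this
    exact this.ne_zero
  have hlne : l ≠ 0 := by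
    rintro rfl
    simp at hl0
  have hsep : IsSeparable K (algebraMap R1 K1 w) := by
    have hpol : (Polynomial.X ^ l - Polynomial.C (algebraMap R K π) : Polynomial K).Separable :=
      (Polynomial.X_pow_sub_C_separable_iff (Nat.pos_of_ne_zero hlne) (by
        rw [Ne, map_eq_zero_iff _ (IsFractionRing.injective R K)]; exact hπ.ne_zero)).2 hl0
    refine hpol.of_dvd (minpoly.dvd K _ ?_)
    rw [map_sub, map_pow, Polynomial.aeval_X, Polynomial.aeval_C, ← map_pow, hwπ,
      ← IsScalarTower.algebraMap_apply, ← IsScalarTower.algebraMap_apply, sub_self]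
  have htop : IntermediateField.adjoin K {algebraMap R1 K1 w} = ⊤ := by
    rw [eq_top_iff]
    have h1 : ∀ s : R1, algebraMap R1 K1 s ∈ IntermediateField.adjoin K {algebraMap R1 K1 w} := by
      intro s
      have hs : s ∈ Algebra.adjoin R {w} := by
        rw [adjoin_eq_top hk hinj hπ hw hwπ]; exact Algebra.mem_top
      induction hs using Algebra.adjoin_induction with
      | mem x hx =>
        rw [Set.mem_singleton_iff.1 hx]
        exact IntermediateField.mem_adjoin_simple_self K _
      | algebraMap r =>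
        rw [← IsScalarTower.algebraMap_apply, IsScalarTower.algebraMap_apply R K K1]
        exact IntermediateField.algebraMap_mem _ _
      | add x y _ _ hx hy => rw [map_add]; exact add_mem hx hy
      | mul x y _ _ hx hy => rw [map_mul]; exact mul_mem hx hy
    intro y _
    obtain ⟨a, b, -, rfl⟩ := IsFractionRing.div_surjective (A := R1) y
    exact div_mem (h1 a) (h1 b)
  have h2 : Algebra.IsSeparable K (IntermediateField.adjoin K {algebraMap R1 K1 w}) :=
    (IntermediateField.isSeparable_adjoin_simple_iff_isSeparable K K1).2 hsep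
  rw [htop] at h2
  exact Algebra.IsSeparable.of_algHom K (⊤ : IntermediateField K K1)
    (IntermediateField.topEquiv (F := K) (E := K1)).symm.toAlgHom

end ext

section main

open Groth.Agent.Sga7.H753.BaseExt

variable {R R1 : Type u} [CommRing R] [IsDomain R] [IsDiscreteValuationRing R] [HenselianLocalRing R]
  (hk : IsAlgClosed (IsLocalRing.ResidueField R))
  [CommRing R1] [IsDomain R1] [IsDiscreteValuationRing R1] [Algebra R R1] [Module.Finite R R1]
  (hinj : Function.Injective (algebraMap R R1)) {l : ℕ} (hl : l.Prime)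
  (hlk : (l : IsLocalRing.ResidueField R) ≠ 0) {π : R} (hπ : Irreducible π) {w : R1} (hw : Irreducible w)
  (hwπ : w ^ l = algebraMap R R1 π)

include hk hl hlk hπ hw hwπ

/-- `R` henselian with algebraically closed residue field, `R₁` finite over `R`, `w ∈ R₁` a uniformizer with
`w ^ l = π`: if `J` has semistable reduction over `R`, then every `l`-torsion point of `J` is rational over
`Frac R₁`. -/
theorem main (J : Over (Spec (CommRingCat.of (FractionRing R)))) [GrpObj J] [IsCommMonObj J] [IsProper J.hom]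
    [GeometricallyIntegral J.hom] (hss : SGA7.HasSemistableReduction R (FractionRing R) J)
    (Ω : Type u) [Field Ω] [Algebra (FractionRing R1) Ω] [IsSepClosure (FractionRing R1) Ω]
    (σ : Ω ≃ₐ[FractionRing R1] Ω)
    (x : SGA7.Pts Ω (Red.bc (Spec.map (CommRingCat.ofHom (K954.RingAct.fracMap R R1 hinj))) J))
    (hx : x ^ l = 1) : SGA7.galAct σ x = x := by
  let _ : Algebra (FractionRing R) (FractionRing R1) := (K954.RingAct.fracMap R R1 hinj).toAlgebra
  have t2 : IsScalarTower R (FractionRing R) (FractionRing R1) := IsScalarTower.of_algebraMap_eq' (by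
    rw [IsScalarTower.algebraMap_eq R R1 (FractionRing R1)]
    exact (K954.RingAct.fracMap_comp R R1 hinj).symm)
  have hsep : Algebra.IsSeparable (FractionRing R) (FractionRing R1) :=
    isSeparable hk hinj hlk hπ hw hwπ (FractionRing R) (FractionRing R1)
  let _ : Algebra (FractionRing R) Ω :=
    ((algebraMap (FractionRing R1) Ω).comp (algebraMap (FractionRing R) (FractionRing R1))).toAlgebra
  have t3 : IsScalarTower (FractionRing R) (FractionRing R1) Ω := .of_algebraMap_eq fun _ => rfl
  have hcl : IsSepClosed Ω := IsSepClosure.sep_closed (FractionRing R1)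
  have hsep1 : Algebra.IsSeparable (FractionRing R1) Ω := IsSepClosure.separable
  have hsc : IsSepClosure (FractionRing R) Ω := ⟨hcl, Algebra.IsSeparable.trans (FractionRing R) (FractionRing R1) Ω⟩
  have hR : EtCoh.IsStrictlyHenselianLocalRing R := ⟨inferInstance, inferInstance⟩
  have hz : (algebraMap (FractionRing R1) Ω (algebraMap R1 (FractionRing R1) w)) ^ l =
      algebraMap (FractionRing R) Ω (algebraMap R (FractionRing R) π) := by
    rw [← map_pow, ← map_pow, hwπ, IsScalarTower.algebraMap_apply (FractionRing R) (FractionRing R1) Ω,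
      ← IsScalarTower.algebraMap_apply R (FractionRing R) (FractionRing R1),
      ← IsScalarTower.algebraMap_apply R R1 (FractionRing R1)]
  have key := galAct_eq_of_root R (FractionRing R) Ω hR hl hlk J hss hπ hz (σ.restrictScalars (FractionRing R))
    (σ.commutes _) (ptsEquiv (FractionRing R) (FractionRing R1) Ω J x)
    (by rw [← map_pow]; exact (congrArg _ hx).trans (map_one _))
  apply (ptsEquiv (FractionRing R) (FractionRing R1) Ω J).injective
  exact (ptsEquiv_galAct σ x).trans key

/-- The same for a smooth geometrically connected `J`. -/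
theorem main' (J : Over (Spec (CommRingCat.of (FractionRing R)))) [GrpObj J] [IsCommMonObj J] [IsProper J.hom]
    [Smooth J.hom] [GeometricallyConnected J.hom] (hss : SGA7.HasSemistableReduction R (FractionRing R) J)
    (Ω : Type u) [Field Ω] [Algebra (FractionRing R1) Ω] [IsSepClosure (FractionRing R1) Ω]
    (σ : Ω ≃ₐ[FractionRing R1] Ω)
    (x : SGA7.Pts Ω (Red.bc (Spec.map (CommRingCat.ofHom (K954.RingAct.fracMap R R1 hinj))) J))
    (hx : x ^ l = 1) : SGA7.galAct σ x = x := by
  have : GeometricallyIntegral J.hom := K378.GeomInt.geometricallyIntegral_of_connected J.hom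
  exact main hk hinj hl hlk hπ hw hwπ J hss Ω σ x hx

end main

/-- The scheme representing `Pic⁰` of a smooth proper geometrically connected curve over a field is
geometrically connected. -/
theorem geometricallyConnected_of_isRelPicZeroK {K : Type u} [Field K] {C : Scheme.{u}}
    {fC : C ⟶ Spec (CommRingCat.of K)} (hC : Curve.IsSmoothProperCurve K C fC) (hC0 : IsIso fC.appTop)
    {J : Over (Spec (CommRingCat.of K))} {φ : ∀ T : Over (Spec (CommRingCat.of K)), PicF.Cl (PicF.XT fC T) → (T ⟶ J)}
    (hJ : AbDual.IsRelPicZeroK Scheme.fppfPrecoverage fC J φ) : GeometricallyConnected J.hom := by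
  have hgi : GeometricallyIrreducible fC := H74.CurveBC.geometricallyIrreducible fC hC
  have hgc : GeometricallyConnected fC := by
    refine ⟨fun L _ y Z fst snd h => ?_⟩
    have : IrreducibleSpace Z := GeometricallyIrreducible.geometrically_irreducibleSpace (f := fC) y fst snd h
    infer_instance
  obtain ⟨h1, h2, h3, h4⟩ := hC
  refine K247.JacProper.geometricallyConnected (f := fC) (fun s => ?_) hJ
  have h5 : topologicalKrullDim (fC.fiber s) = topologicalKrullDim (fC ⁻¹' {s} : Set C) :=
    IsHomeomorph.topologicalKrullDim_eq (fC.fiberHomeo s) (fC.fiberHomeo s).isHomeomorph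
  have h6 : (fC ⁻¹' {s} : Set C) = Set.univ := by
    ext x
    simp only [Set.mem_preimage, Set.mem_singleton_iff, Set.mem_univ, iff_true]
    exact Subsingleton.elim (α := PrimeSpectrum K) _ _
  rw [h5, h6, ← h4]
  exact IsHomeomorph.topologicalKrullDim_eq (Homeomorph.Set.univ C) (Homeomorph.Set.univ C).isHomeomorph

/-- The same for the Jacobian of a curve, in the terms of S15113. -/
theorem mainPic {R R1 : Type u} [CommRing R] [IsDomain R] [IsDiscreteValuationRing R] [HenselianLocalRing R]
    (hk : IsAlgClosed (IsLocalRing.ResidueField R))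
    [CommRing R1] [IsDomain R1] [IsDiscreteValuationRing R1] [Algebra R R1] [Module.Finite R R1]
    (hinj : Function.Injective (algebraMap R R1)) {l : ℕ} (hl : l.Prime)
    (hlk : (l : IsLocalRing.ResidueField R) ≠ 0) {π : R} (hπ : Irreducible π) {w : R1} (hw : Irreducible w)
    (hwπ : w ^ l = algebraMap R R1 π) {C : Scheme.{u}} {fC : C ⟶ Spec (CommRingCat.of (FractionRing R))}
    (hC : Curve.IsSmoothProperCurve (FractionRing R) C fC) (hC0 : IsIso fC.appTop)
    (J : Over (Spec (CommRingCat.of (FractionRing R)))) [GrpObj J] [IsCommMonObj J] [IsProper J.hom]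
    [Smooth J.hom]
    {φ : ∀ T : Over (Spec (CommRingCat.of (FractionRing R))), PicF.Cl (PicF.XT fC T) → (T ⟶ J)}
    (hJ : AbDual.IsRelPicZeroK Scheme.fppfPrecoverage fC J φ)
    (hss : SGA7.HasSemistableReduction R (FractionRing R) J)
    (Ω : Type u) [Field Ω] [Algebra (FractionRing R1) Ω] [IsSepClosure (FractionRing R1) Ω]
    (σ : Ω ≃ₐ[FractionRing R1] Ω)
    (x : SGA7.Pts Ω (Red.bc (Spec.map (CommRingCat.ofHom (K954.RingAct.fracMap R R1 hinj))) J))
    (hx : x ^ l = 1) : SGA7.galAct σ x = x := by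
  have := geometricallyConnected_of_isRelPicZeroK hC hC0 hJ
  exact main' hk hinj hl hlk hπ hw hwπ J hss Ω σ x hx

end Groth.Agent.Models.K511.InertPts
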