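import Groth.Agent.PicF.K247.FibDeg
import Groth.Agent.PicF.K247.AlgTriv
import Groth.Agent.Models.H58.GalDesc
import Groth.Agent.Fga.RelCart
import Groth.Agent.Etcore.DegZero
import Groth.Agent.Models.K511.InertPts

/-!
# Classes over a field-valued point: injectivity of `φ` and torsion classes

`f : C ⟶ S` with `(P, φ)` representing the fppf-sheafified `Pic⁰`.

* `eq_of_phi_eq`: over a field-valued point `T` of `S` over which all global functions of `C_T` are constant, two classes in
  `Pic⁰` with the same image under `φ` are equal (no section of `f` is needed);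
* `fibZero_of_pow`: a class on `C_T` with `c ^ n = 1`, `n ≠ 0`, is in `Pic⁰` (smooth proper curves).
-/

set_option autoImplicit false
universe u
open CategoryTheory CategoryTheory.Limits AlgebraicGeometry

namespace Groth.Agent.Models.K511.PicInj

open Groth.Agent.Grpsch.PicGrp Groth.Agent.Fga.RigGrp K530.PicZero K247.DegFn

variable {C S : Scheme.{u}} {f : C ⟶ S} {P : Over S} {φ : ∀ T : Over S, PicF.Cl (PicF.XT f T) → (T ⟶ P)}

/-- Over a field-valued point, `Pic⁰` classes with the same image under `φ` are equal. -/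
theorem eq_of_phi_eq (hP : AbDual.IsRelPicZeroK Scheme.fppfPrecoverage f P φ) [QuasiCompact f] [QuasiSeparated f]
    {F : Type u} [Field F] (t : Spec (CommRingCat.of F) ⟶ S)
    (hH0 : IsIso (PicF.XTproj f (Over.mk t)).appTop) (a b : Pic (PicF.XT f (Over.mk t)))
    (ha : FibZero (PicF.XTproj f (Over.mk t)) a) (hb : FibZero (PicF.XTproj f (Over.mk t)) b)
    (h : φ (Over.mk t) (toCl a) = φ (Over.mk t) (toCl b)) : a = b := by
  obtain ⟨R, hR, hloc⟩ := hP.locallyInjective (Over.mk t) _ _ ((isPicZeroCl_toCl_iff f _ _).2 ha)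
    ((isPicZeroCl_toCl_iff f _ _).2 hb) h
  obtain ⟨U, u, x, hu, -, -, -⟩ := exists_mem hR (IsLocalRing.closedPoint F)
  obtain ⟨Ω, _, _, y, hy⟩ := K247.AlgTriv.exists_geom x
  have h1 := hloc u hu
  rw [← toCl_pull, ← toCl_pull] at h1
  have h2 := toCl_injective h1
  -- over the geometric point
  let T : Over S := Over.mk t
  let T' : Over S := Over.mk ((y ≫ u) ≫ t)
  let w : T' ⟶ AbDual.ovr T u := Over.homMk y (by simp [T', T, AbDual.ovr])
  let v : T' ⟶ T := Over.homMk (y ≫ u) rfl
  have hwv : w ≫ AbDual.ovrHom T u = v := by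
    apply Over.OverMorphism.ext
    rfl
  have h3 : pull (PicF.XTmap f v) a = pull (PicF.XTmap f v) b := by
    rw [← hwv, XTmap_comp, pull_comp, pull_comp, h2]
  obtain ⟨g, hg⟩ : ∃ g : F →+* Ω, Spec.map (CommRingCat.ofHom g) = y ≫ u :=
    ⟨(Spec.preimage (y ≫ u)).hom, by simp⟩
  let _ : Algebra F Ω := g.toAlgebra
  have hpb : IsPullback (PicF.XTmap f v) (PicF.XTproj f T') (PicF.XTproj f T)
      (Spec.map (CommRingCat.ofHom (algebraMap F Ω))) := by
    have := Groth.Agent.Fga.RelCart.isPullback_XTmap f v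
    have h4 : v.left = Spec.map (CommRingCat.ofHom (algebraMap F Ω)) := hg.symm
    rwa [h4] at this
  have hqsT : QuasiSeparatedSpace ↥T.left := inferInstanceAs (QuasiSeparatedSpace ↥(Spec (CommRingCat.of F)))
  have hcT : CompactSpace ↥T.left := inferInstanceAs (CompactSpace ↥(Spec (CommRingCat.of F)))
  have hc : CompactSpace ↥(PicF.XT f T) := by
    have : QuasiCompact (PicF.XTproj f T) := inferInstanceAs (QuasiCompact (pullback.snd f t))
    exact QuasiCompact.compactSpace_of_compactSpace (PicF.XTproj f T)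
  have hq : QuasiSeparatedSpace ↥(PicF.XT f T) := by
    have : QuasiSeparated (PicF.XTproj f T) := inferInstanceAs (QuasiSeparated (pullback.snd f t))
    exact quasiSeparatedSpace_of_quasiSeparated (PicF.XTproj f T)
  exact Groth.Agent.Models.H58.GalDesc.pull_injective hpb hH0 h3

/-- Torsion classes on a smooth proper family of curves lie in `Pic⁰`. -/
theorem fibZero_of_pow [IsProper f] [Smooth f] [GeometricallyConnected f]
    (hdim : ∀ s : S, topologicalKrullDim ↥(f.fiber s) = 1) (T : Over S) (c : Pic (PicF.XT f T)) {n : ℕ}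
    (hn : n ≠ 0) (hc : c ^ n = 1) : FibZero (PicF.XTproj f T) c := by
  have i1 : IsProper (PicF.XTproj f T) := inferInstanceAs (IsProper (pullback.snd f T.hom))
  have i2 : Smooth (PicF.XTproj f T) := inferInstanceAs (Smooth (pullback.snd f T.hom))
  have i3 : GeometricallyConnected (PicF.XTproj f T) :=
    inferInstanceAs (GeometricallyConnected (pullback.snd f T.hom))
  intro Ω _ _ σ
  let p := PicF.XTproj f T
  have hd : topologicalKrullDim ↑(pullback p σ) = 1 := by
    rw [Flat2G.ProperDim.topologicalKrullDim_field_point p (Field.toIsField Ω) (pullback.snd p σ)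
      (pullback.fst p σ) σ (IsPullback.of_hasPullback p σ) (IsLocalRing.closedPoint Ω)]
    exact dim_fiber f hdim T _
  let _ : (pullback p σ).Over (Spec (CommRingCat.of Ω)) := ⟨pullback.snd p σ⟩
  have h1 : IsProper ((pullback p σ) ↘ Spec (CommRingCat.of Ω)) :=
    inferInstanceAs (IsProper (pullback.snd p σ))
  have h2 : Smooth ((pullback p σ) ↘ Spec (CommRingCat.of Ω)) :=
    inferInstanceAs (Smooth (pullback.snd p σ))
  have h3 : ConnectedSpace ↑(pullback p σ) :=
    GeometricallyConnected.geometrically_connectedSpace (f := p) _ _ _ (.of_hasPullback _ _)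
  have h4 : IsIntegral (pullback p σ) := K247.SmoothGI.isIntegral_of_smooth (pullback.snd p σ)
  obtain ⟨L, hL, hcL⟩ := exists_mk (pull (pullback.fst p σ) c)
  have h5 : (mk L hL) ^ n = 1 := by rw [← hcL, ← map_pow, hc, map_one]
  have h6 := Etcore.DegZero.dg_pow Ω (pullback p σ) hd (mk L hL) n
  rw [h5, Etcore.DegZero.dg_one, Etcore.DegZero.dg_mk] at h6
  have h7 : FGA.eulerCharLE Ω (pullback p σ) L 1 -
      FGA.eulerCharLE Ω (pullback p σ) (Coh.structureModule (pullback p σ)) 1 = 0 := by
    rcases mul_eq_zero.1 h6.symm with h | h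
    · exact absurd (by exact_mod_cast h) hn
    · exact h
  rw [hcL]
  exact K247.AbelSurj.algEq hd hL h7

section field

open Groth.Agent.Picfga.FieldSections

variable {L : Type u} [Field L] {C : Scheme.{u}} (f : C ⟶ Spec (CommRingCat.of L))

theorem geometricallyConnected (hC : Curve.IsSmoothProperCurve L C f) (hH0 : IsIso f.appTop) :
    GeometricallyConnected f := by
  have hgi : GeometricallyIrreducible f := H74.CurveBC.geometricallyIrreducible f hC
  refine ⟨fun L _ y Z fst snd h => ?_⟩
  have : IrreducibleSpace Z := GeometricallyIrreducible.geometrically_irreducibleSpace (f := f) y fst snd h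
  infer_instance

theorem dim_fiber (hC : Curve.IsSmoothProperCurve L C f) (s : Spec (CommRingCat.of L)) :
    topologicalKrullDim ↥(f.fiber s) = 1 := by
  have h5 : topologicalKrullDim (f.fiber s) = topologicalKrullDim (f ⁻¹' {s} : Set C) :=
    IsHomeomorph.topologicalKrullDim_eq (f.fiberHomeo s) (f.fiberHomeo s).isHomeomorph
  have h6 : (f ⁻¹' {s} : Set C) = Set.univ := by
    ext x
    simp only [Set.mem_preimage, Set.mem_singleton_iff, Set.mem_univ, iff_true]
    exact Subsingleton.elim (α := PrimeSpectrum L) _ _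
  rw [h5, h6, ← hC.2.2.2]
  exact IsHomeomorph.topologicalKrullDim_eq (Homeomorph.Set.univ C) (Homeomorph.Set.univ C).isHomeomorph

/-- Torsion classes on `C_Ω` are in `Pic⁰`. -/
theorem fibZero (hC : Curve.IsSmoothProperCurve L C f) (hH0 : IsIso f.appTop) (Ω : Type u) [Field Ω] [Algebra L Ω]
    (c : Pic (pullback f (bc L Ω))) (n : ℕ) (hn : n ≠ 0) (hc : c ^ n = 1) :
    K530.PicZero.FibZero (PicF.XTproj f (Over.mk (bc L Ω))) c := by
  have h1 : IsProper f := hC.1
  have h2 : Smooth f := hC.2.1
  have h3 := geometricallyConnected f hC hH0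
  exact fibZero_of_pow (dim_fiber f hC) (Over.mk (bc L Ω)) c hn hc

/-- Classes in `Pic⁰(C_Ω)` with the same image under `φ` are equal. -/
theorem phi_inj (hC : Curve.IsSmoothProperCurve L C f) (hH0 : IsIso f.appTop)
    (J : Over (Spec (CommRingCat.of L))) (φ : ∀ T : Over (Spec (CommRingCat.of L)), PicF.Cl (PicF.XT f T) → (T ⟶ J))
    (hJ : AbDual.IsRelPicZeroK Scheme.fppfPrecoverage f J φ) (Ω : Type u) [Field Ω] [Algebra L Ω]
    (a b : Pic (pullback f (bc L Ω))) (ha : K530.PicZero.FibZero (PicF.XTproj f (Over.mk (bc L Ω))) a)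
    (hb : K530.PicZero.FibZero (PicF.XTproj f (Over.mk (bc L Ω))) b)
    (h : φ (Over.mk (bc L Ω)) (toCl a) = φ (Over.mk (bc L Ω)) (toCl b)) : a = b := by
  have h1 : IsProper f := hC.1
  have h2 : CompactSpace C := QuasiCompact.compactSpace_of_compactSpace f
  have h3 : QuasiSeparatedSpace C := quasiSeparatedSpace_of_quasiSeparated f
  refine eq_of_phi_eq hJ (bc L Ω) ?_ a b ha hb h
  exact Groth.Agent.Picfga.H0.isIso_app f hH0 (Over.mk (bc L Ω)) ⊤

end field

end Groth.Agent.Models.K511.PicInj
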