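import Groth.Agent.Models.K511.PicInj
import Groth.Agent.Models.K567.GalInv0

/-!
# Galois invariance of the torsion of the Picard group from that of the Jacobian
-/

set_option autoImplicit false
universe u
open CategoryTheory CategoryTheory.Limits MonoidalCategory CartesianMonoidalCategory MonObj GrpObj AlgebraicGeometry

namespace Groth.Agent.Models.K511.GalInv

open Groth.Agent.Grpsch.PicGrp Groth.Agent.Picfga.FieldSections Groth.Agent.Picfga.GaloisAct Groth.Agent.Fga.RigGrp

/-- If the Galois group acts trivially on the `l`-torsion of the Jacobian, it acts trivially on the `l`-torsion of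
`Pic(C_Ω)`. -/
theorem main (L : Type u) [Field L] {C : Scheme.{u}} (f : C ⟶ Spec (CommRingCat.of L))
    (hC : Curve.IsSmoothProperCurve L C f) (hH0 : IsIso f.appTop)
    (J : Over (Spec (CommRingCat.of L))) [GrpObj J] [IsCommMonObj J] [IsProper J.hom] [Smooth J.hom]
    (φ : ∀ T : Over (Spec (CommRingCat.of L)), PicF.Cl (PicF.XT f T) → (T ⟶ J))
    (hD : AbDual.IsDualAV Scheme.fppfPrecoverage (Over.mk f) J φ) (l : ℕ) (hl : l.Prime)
    (Ω : Type u) [Field Ω] [Algebra L Ω] [IsSepClosure L Ω]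
    (hgal : ∀ (σ : Ω ≃ₐ[L] Ω) (x : SGA7.Pts Ω J), x ^ l = 1 → SGA7.galAct σ x = x)
    (σ : Ω ≃ₐ[L] Ω) (c : Pic (pullback f (bc L Ω))) (hc : c ^ l = 1) : pull (tw f σ) c = c :=
  K567.GalInv.formal f J φ hD l hgal c hc (PicInj.fibZero f hC hH0 Ω c l hl.ne_zero hc)
    (fun a b ha hb h => PicInj.phi_inj f hC hH0 J φ hD.relPic Ω a b ha hb h) σ

end Groth.Agent.Models.K511.GalInv
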