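import Groth.Agent.Models.K485.Dict
import Groth.Agent.Models.K511.InertPts
import Groth.Agent.S7785

/-!
# `Dict.InertHyp` holds
-/

set_option autoImplicit false
universe u
open CategoryTheory CategoryTheory.Limits MonoidalCategory CartesianMonoidalCategory MonObj GrpObj AlgebraicGeometry

namespace Groth.Agent.Models.K511.InertHyp

open _root_.K954

/-- The inertia part of the torsion count of `K485.Dict`. -/
theorem main : K485.Dict.InertHyp.{u} := by
  intro R _ _ _ _ hk J _ _ _ hss l hl hlk ϖ hϖ R1 _ _ _ _ _ hinj w hw hwl Ω _ _ _ σ x hx
  have h1 : HenselianLocalRing R := Groth.Agent.Models.K954.PicClosed.henselianLocalRing R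
  have h3 : GeometricallyConnected J.hom :=
    ⟨fun L _ y Z fst snd h => by
      have : IsIntegral Z := GeometricallyIntegral.geometrically_isIntegral (f := J.hom) y fst snd h
      infer_instance⟩
  have h2 : IsCommMonObj J := S7785.result J
  exact InertPts.main hk hinj hl hlk hϖ hw hwl J hss Ω σ x hx

end Groth.Agent.Models.K511.InertHyp
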